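import Cfsg.Agent.Lib.Spor.TC.Check

/-!
# Relators obtained from others

A word is covered by a list if it freely equals a conjugate of a word of the list or of its reverse.
-/

set_option autoImplicit false

namespace CfsgLib.Spor.JThreeUnique

open CfsgLib.Spor.TC

/-- One covered word: the witness gives the index, whether to reverse, and the conjugator. -/
noncomputable def coverOne (base : List (List ℕ)) (r : List ℕ) (c : ℕ × Bool × List ℕ) : Bool :=
  match nth base c.1 with
  | none => false
  | some b => beqWord (reduceWord (c.2.2 ++ (bif c.2.1 then b.reverse else b) ++ c.2.2.reverse)) (reduceWord r)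

/-- All words are covered. -/
noncomputable def coveredBy (base : List (List ℕ)) : List (List ℕ) → List (ℕ × Bool × List ℕ) → Bool
  | [], [] => true
  | r :: rs, c :: cs => coverOne base r c && coveredBy base rs cs
  | _, _ => false

variable {G : Type*} [Group G] {g : ℕ → G}

theorem ev_reverse (hg : ∀ x, g x * g x = 1) : ∀ l : List ℕ, ev g l.reverse = (ev g l)⁻¹ := by
  intro l
  induction l with
  | nil => simp [ev]
  | cons a l ih =>
    rw [List.reverse_cons, ev_append, ev_cons, ev_cons, ih, mul_inv_rev,
      inv_eq_of_mul_eq_one_right (hg a)]
    simp [ev]

theorem ev_covered (hg : ∀ x, g x * g x = 1) {base : List (List ℕ)} :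
    ∀ {rs : List (List ℕ)} {cs : List (ℕ × Bool × List ℕ)}, coveredBy base rs cs = true →
      (∀ b ∈ base, ev g b = 1) → ∀ r ∈ rs, ev g r = 1 := by
  intro rs
  induction rs with
  | nil => intro cs _ _ r hr; simp at hr
  | cons a rs ih =>
    intro cs h hb r hr
    cases cs with
    | nil => simp [coveredBy] at h
    | cons c cs =>
      simp only [coveredBy, Bool.and_eq_true] at h
      rcases List.mem_cons.1 hr with rfl | hr
      · obtain ⟨h1, -⟩ := h
        unfold coverOne at h1
        split at h1
        · exact absurd h1 Bool.false_ne_true
        next b hn =>
          have e := congrArg (ev g) (beqWord_iff h1)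
          rw [ev_reduceWord hg, ev_reduceWord hg] at e
          rw [← e, ev_append, ev_append, ev_reverse hg]
          have h2 : ev g (bif c.2.1 then b.reverse else b) = 1 := by
            cases c.2.1
            · exact hb b (nth_mem hn)
            · show ev g b.reverse = 1
              rw [ev_reverse hg, hb b (nth_mem hn), inv_one]
          rw [h2, mul_one, mul_inv_cancel]
      · exact ih h.2 hb r hr

end CfsgLib.Spor.JThreeUnique
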