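import Cfsg.Agent.Lib.Spor.TC.Check

/-!
# Relators for the uniqueness of the third Janko group

The letters are six involutions `u`, `σ`, `w`, `w t ^ 6`, `w t ^ 10`, `d`, where `t` has order fifteen.
-/

set_option autoImplicit false

namespace CfsgLib.Spor.JThreeUnique

open CfsgLib.Spor.TC

/-- The element of order five. -/
def fW : List ℕ := [2, 3]

/-- The element of order three. -/
def yW : List ℕ := [2, 4]

def rep (n : ℕ) (l : List ℕ) : List ℕ := (List.replicate n l).flatten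

def fPow (p : ℕ) : List ℕ := if p ≤ 2 then rep p fW else rep (5 - p) fW.reverse

def yPow (q : ℕ) : List ℕ := if q ≤ 1 then rep q yW else rep (3 - q) yW.reverse

/-- A power of `t`. -/
def tW (i : ℕ) : List ℕ := fPow (i % 5) ++ yPow (i % 3)

/-- A conjugate of `u`. -/
def uW (i : ℕ) : List ℕ := tW i ++ [0] ++ (tW i).reverse

/-- A commutator. -/
def comW (a b : List ℕ) : List ℕ := a.reverse ++ b.reverse ++ a ++ b

/-- The two spellings of the conjugate of `d`. -/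
def qW : List ℕ := [2, 5, 2]

def vW : List ℕ := [2, 1, 5, 1, 2]

/-- A braid relation. -/
def brW (i : ℕ) : List ℕ := uW i ++ [2] ++ uW (15 - i) ++ [2] ++ uW i ++ [2] ++ (tW (2 * i)).reverse

/-- The relators of the subgroup and of the extra involution. -/
def base : List (List ℕ) :=
  [rep 5 fW, rep 3 yW, comW fW yW, [1] ++ fW ++ [1] ++ fW, [4, 1, 4, 1], [0, 1, 0, 1], [2, 1, 2, 1], rep 3 [0, 2],
    comW [0] (uW 3), comW [0] (uW 4), comW [0] (uW 5), comW [0] (uW 6),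
    uW 4 ++ uW 1 ++ uW 0, uW 0 ++ uW 3 ++ uW 14, uW 0 ++ uW 5 ++ uW 10, uW 0 ++ uW 6 ++ uW 13,
    uW 1 ++ uW 3 ++ uW 9,
    brW 1, brW 2, brW 3, brW 5, brW 7, brW 8, brW 10, brW 11, brW 12, brW 13,
    [5, 1, 5, 1], [5, 0, 5, 0], comW [5] yW,
    [5] ++ uW 1 ++ [5] ++ uW 2, [5] ++ uW 3 ++ [5] ++ uW 14, [5] ++ uW 4 ++ [5] ++ uW 8,
    [5] ++ uW 5 ++ [5] ++ uW 5, [5] ++ uW 6 ++ [5] ++ uW 7, [5] ++ uW 9 ++ [5] ++ uW 13,
    [5] ++ uW 10 ++ [5] ++ uW 10, [5] ++ uW 11 ++ [5] ++ uW 12,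
    rep 5 ([5] ++ [1] ++ fW), rep 2 ([5] ++ fW ++ [1] ++ fW),
    rep 3 (qW ++ fW), rep 2 (qW ++ fW ++ qW ++ fW ++ fW), rep 2 (qW ++ fW ++ [1] ++ fW),
    rep 2 ([5] ++ qW) ++ [1], comW qW [1],
    rep 3 (vW ++ fW), rep 2 (vW ++ fW ++ [1] ++ fW), rep 2 ([5] ++ vW) ++ [1], comW vW [1], comW vW yW]

/-- The product of three. -/
def fdq : List ℕ := fW ++ [5] ++ vW

/-- The relators among `σ f`, `σ`, `d` and its conjugate. -/
def xBase : List (List ℕ) :=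
  let f : List ℕ := [1, 0]
  [rep 5 f, [2, 1, 2, 1], [3, 1, 3, 1], [2, 3, 2, 3, 1],
    rep 3 ([2] ++ f), rep 5 ([2] ++ [1] ++ f), rep 2 ([2] ++ f ++ [2] ++ f ++ f), rep 2 ([2] ++ f ++ [1] ++ f),
    rep 5 ([2] ++ f ++ [2] ++ f.reverse),
    rep 3 ([3] ++ f), rep 5 ([3] ++ [1] ++ f), rep 2 ([3] ++ f ++ [3] ++ f ++ f), rep 2 ([3] ++ f ++ [1] ++ f),
    rep 5 ([3] ++ f ++ [3] ++ f.reverse)]

end CfsgLib.Spor.JThreeUnique
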