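import Cfsg.Agent.Lib.Invol.JThreeType.Sixteen.Braid
import Cfsg.Agent.Lib.Invol.JThreeType.Sixteen.Amalgam
import Cfsg.Agent.Lib.Spor.JThreeUnique.Words
import Cfsg.Agent.Lib.Spor.JThreeUnique.Cover

/-!
# The six involutions in a group of third Janko type

They satisfy the relators.
-/

set_option autoImplicit false

namespace CfsgLib.Spor.JThreeUnique

open CfsgLib.Spor.TC CfsgLib.Invol.JThreeType

variable {G : Type*} [Group G]

/-- The six involutions, padded. -/
def letters (u σ w t d : G) (x : ℕ) : G := [u, σ, w, w * t ^ 6, w * t ^ 10, d].getD x 1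

theorem ev_rep (g : ℕ → G) (n : ℕ) (l : List ℕ) : ev g (rep n l) = ev g l ^ n := by
  induction n with
  | zero => simp [rep, ev]
  | succ n ih =>
    show ev g (List.replicate (n + 1) l).flatten = _
    rw [List.replicate_succ, List.flatten_cons, ev_append, pow_succ']
    congr 1

theorem ev_one (g : ℕ → G) (x : ℕ) : ev g [x] = g x := by simp [ev]

variable [Finite G] {T : Subgroup G} {t σ w u : G} {K : Type} [Field K] {ζ : K} {θ : K → G}
  {S : Setting T t σ w u K ζ θ} {d : G} (D : Transv S d)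
include D

local notation "gl" => letters u σ w t d

theorem letters_sq : ∀ x, gl x * gl x = 1 := by
  have hw : ∀ n : ℕ, w * t ^ n * (w * t ^ n) = 1 := fun n => by
    rw [show w * t ^ n * (w * t ^ n) = w * t ^ n * w⁻¹⁻¹ * t ^ n by group, inv_inv,
      show w * t ^ n * w = w * t ^ n * w⁻¹ by rw [S.cfg.winv], ← conj_pow, S.cfg.winv, S.cfg.wtw, inv_pow,
      inv_mul_cancel]
  intro x
  match x with
  | 0 => exact S.cfg.sq u S.cfg.uT
  | 1 => exact S.cfg.ss
  | 2 => exact S.cfg.ww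
  | 3 => exact hw 6
  | 4 => exact hw 10
  | 5 => exact D.dd
  | n + 6 => exact one_mul 1

theorem ev_fW : ev gl fW = t ^ 6 := by
  simp [fW, ev, letters, ← mul_assoc, S.cfg.ww]

theorem ev_yW : ev gl yW = t ^ 10 := by
  simp [yW, ev, letters, ← mul_assoc, S.cfg.ww]

theorem pow_mod_t (n : ℕ) : t ^ n = t ^ (n % 15) := by
  conv_lhs => rw [← Nat.mod_add_div n 15, pow_add, pow_mul, S.cfg.t15, one_pow, mul_one]

theorem ev_tW (i : ℕ) : ev gl (tW i) = t ^ i := by
  have hg := letters_sq D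
  have hinv : ∀ n k : ℕ, 15 ∣ n + k → ((t ^ n)⁻¹ : G) = t ^ k := fun n k h => inv_eq_of_mul_eq_one_right (by
    obtain ⟨c, hc⟩ := h
    rw [← pow_add, hc, pow_mul, S.cfg.t15, one_pow])
  have hf : ev gl (fPow (i % 5)) = t ^ (6 * (i % 5)) := by
    unfold fPow
    split
    · rw [ev_rep, ev_fW D, ← pow_mul]
    · rw [ev_rep, ev_reverse hg, ev_fW D, hinv 6 9 (by norm_num), ← pow_mul, pow_mod_t D, pow_mod_t D (6 * _)]
      congr 1
      omega
  have hy : ev gl (yPow (i % 3)) = t ^ (10 * (i % 3)) := by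
    unfold yPow
    split
    · rw [ev_rep, ev_yW D, ← pow_mul]
    · rw [ev_rep, ev_reverse hg, ev_yW D, hinv 10 5 (by norm_num), ← pow_mul, pow_mod_t D, pow_mod_t D (10 * _)]
      congr 1
      omega
  rw [tW, ev_append, hf, hy, ← pow_add, pow_mod_t D, pow_mod_t D i]
  congr 1
  omega

theorem ev_uW (i : ℕ) : ev gl (uW i) = t ^ i * u * (t ^ i)⁻¹ := by
  rw [uW, ev_append, ev_append, ev_reverse (letters_sq D), ev_tW D, ev_one]
  rfl

theorem ev_qW : ev gl qW = mate w d := by simp [qW, ev, letters, mate, mul_assoc]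

theorem ev_vW : ev gl vW = mate w d := by
  rw [show ev gl vW = w * (σ * d * σ) * w by simp [vW, ev, letters, mul_assoc], ← D.ds, mul_assoc d, S.cfg.ss,
    mul_one]
  rfl

theorem ev_comW {a b : List ℕ} (h : Commute (ev gl a) (ev gl b)) : ev gl (comW a b) = 1 := by
  rw [comW, ev_append, ev_append, ev_append, ev_reverse (letters_sq D), ev_reverse (letters_sq D)]
  rw [mul_assoc _ (ev gl a), h.eq]
  group

theorem w_pow (i : ℕ) : t ^ i * w * t ^ i = w := by
  have e : w * t ^ i * w = (t ^ i)⁻¹ := by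
    rw [show w * t ^ i * w = w * t ^ i * w⁻¹ by rw [S.cfg.winv], ← conj_pow, S.cfg.winv, S.cfg.wtw, inv_pow]
  calc t ^ i * w * t ^ i = t ^ i * (w * t ^ i * w) * w := by
        rw [show t ^ i * (w * t ^ i * w) * w = t ^ i * w * t ^ i * (w * w) by group, S.cfg.ww, mul_one]
    _ = w := by rw [e]; group

theorem ev_brW (i : ℕ) (hi : i ≤ 15) : ev gl (brW i) = 1 := by
  have e15 : t ^ (15 - i) = (t ^ i)⁻¹ := (inv_eq_of_mul_eq_one_right (by
    rw [← pow_add, Nat.add_sub_cancel' hi, S.cfg.t15])).symm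
  simp only [brW, ev_append, ev_reverse (letters_sq D), ev_tW D, ev_uW D, ev_one]
  rw [e15, inv_inv, show gl 2 = w from rfl, S.braid_conj (w_pow D i), two_mul, pow_add, mul_inv_cancel]

theorem base_ok : ∀ r ∈ base, ev gl r = 1 := by
  have hσ : gl 1 = σ := rfl
  have hd : gl 5 = d := rfl
  have hu : gl 0 = u := rfl
  have hw : gl 2 = w := rfl
  have uu : ∀ i, ev gl (comW [0] (uW i)) = 1 := fun i => ev_comW D (by
    rw [ev_one, hu, ev_uW D]; exact S.cfg.comm u S.cfg.uT _ (S.cfg.tpow_mem i S.cfg.uT))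
  have tri : ∀ i j k, B4.add (B4.add (B4.pw i) (B4.pw j)) (B4.pw k) = B4.zero →
      ev gl (uW i ++ uW j ++ uW k) = 1 := fun i j k e => by
    rw [ev_append, ev_append, ev_uW D, ev_uW D, ev_uW D, ← S.theta_val, ← S.theta_val, ← S.theta_val,
      ← S.crd.add, ← val_add S.two, ← S.crd.add, ← val_add S.two, e]
    simp [B4.zero, val, bit, S.cfg.theta_zero S.crd]
  have mv : ∀ i j, B4.tv (B4.pw i) = B4.pw j → ev gl ([5] ++ uW i ++ [5] ++ uW j) = 1 := fun i j e => by
    rw [ev_append, ev_append, ev_append, ev_one, hd, ev_uW D, ev_uW D, D.move i j e]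
    exact S.cfg.sq _ (S.cfg.tpow_mem j S.cfg.uT)
  simp only [base, List.forall_mem_cons, List.not_mem_nil, IsEmpty.forall_iff, implies_true, and_true]
  refine ⟨?_, ?_, ev_comW D ?_, ?_, ?_, ?_, ?_, ?_, uu 3, uu 4, uu 5, uu 6, tri 4 1 0 (by decide),
    tri 0 3 14 (by decide), tri 0 5 10 (by decide), tri 0 6 13 (by decide), tri 1 3 9 (by decide),
    ev_brW D 1 (by norm_num), ev_brW D 2 (by norm_num), ev_brW D 3 (by norm_num), ev_brW D 5 (by norm_num),
    ev_brW D 7 (by norm_num), ev_brW D 8 (by norm_num), ev_brW D 10 (by norm_num), ev_brW D 11 (by norm_num),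
    ev_brW D 12 (by norm_num), ev_brW D 13 (by norm_num), ?_, ?_, ev_comW D ?_,
    mv 1 2 (by decide), mv 3 14 (by decide), mv 4 8 (by decide), mv 5 5 (by decide), mv 6 7 (by decide),
    mv 9 13 (by decide), mv 10 10 (by decide), mv 11 12 (by decide), ?_, ?_, ?_, ?_, ?_, ?_, ev_comW D ?_,
    ?_, ?_, ?_, ev_comW D ?_, ev_comW D ?_⟩
  · rw [ev_rep, ev_fW D, ← pow_mul, show 6 * 5 = 15 * 2 from rfl, pow_mul, S.cfg.t15, one_pow]
  · rw [ev_rep, ev_yW D, S.y_three]
  · rw [ev_fW D, ev_yW D]; exact D.pw_commute 6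
  · rw [ev_append, ev_append, ev_append, ev_one, hσ, ev_fW D, S.cfg.sigma_t,
      mul_assoc (t ^ (4 * 6)) σ σ, S.cfg.ss, mul_one, ← pow_add, show 4 * 6 + 6 = 15 * 2 from rfl, pow_mul,
      S.cfg.t15, one_pow]
  · show ev gl [4, 1, 4, 1] = 1
    have c : Commute (w * t ^ 10) σ := (show Commute w σ from S.cfg.ws).mul_left D.sig_commute.symm
    have e4 : w * t ^ 10 * (w * t ^ 10) = 1 := letters_sq D 4
    simp [ev, letters]
    rw [← mul_assoc σ, ← c.eq, mul_assoc (w * t ^ 10) σ σ, S.cfg.ss, mul_one, e4]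
  · simp [ev, letters]
    rw [← mul_assoc σ, S.cfg.su, mul_assoc u σ σ, S.cfg.ss, mul_one, S.cfg.sq u S.cfg.uT]
  · simp [ev, letters]
    rw [← mul_assoc σ, ← S.cfg.ws, mul_assoc w σ σ, S.cfg.ss, mul_one, S.cfg.ww]
  · rw [ev_rep, show ev gl [0, 2] = u * w by simp [ev, letters], pow_three', S.braid]
  · simp [ev, letters]
    rw [← mul_assoc σ, ← D.ds, mul_assoc d σ σ, S.cfg.ss, mul_one, D.dd]
  · simp [ev, letters]
    rw [← mul_assoc u, ← D.du, mul_assoc d u u, S.cfg.sq u S.cfg.uT, mul_one, D.dd]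
  · rw [ev_one, hd, ev_yW D]; exact D.dy
  · rw [ev_rep, ev_append, ev_append, ev_one, ev_one, hd, hσ, ev_fW D]; exact D.dsf5
  · rw [ev_rep, ev_append, ev_append, ev_append, ev_one, ev_one, hd, hσ, ev_fW D]; exact D.dfsf2
  · rw [ev_rep, ev_append, ev_qW D, ev_fW D]; exact D.qf3
  · rw [ev_rep, ev_append, ev_append, ev_append, ev_append, ev_qW D, ev_fW D]; exact D.qfqff2
  · rw [ev_rep, ev_append, ev_append, ev_append, ev_qW D, ev_one, hσ, ev_fW D]; exact D.qfsf2
  · rw [ev_append, ev_rep, ev_append, ev_one, ev_one, hd, hσ, ev_qW D, D.mate_comm, S.cfg.ss]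
  · rw [ev_qW D, ev_one, hσ]; exact D.mate_sigma
  · rw [ev_rep, ev_append, ev_vW D, ev_fW D]; exact D.qf3
  · rw [ev_rep, ev_append, ev_append, ev_append, ev_vW D, ev_one, hσ, ev_fW D]; exact D.qfsf2
  · rw [ev_append, ev_rep, ev_append, ev_one, ev_one, hd, hσ, ev_vW D, D.mate_comm, S.cfg.ss]
  · rw [ev_vW D, ev_one, hσ]; exact D.mate_sigma
  · rw [ev_vW D, ev_yW D]; exact D.mate_y

theorem ev_fdq : ev gl fdq = t ^ 6 * d * mate w d := by
  rw [fdq, ev_append, ev_append, ev_fW D, ev_one, ev_vW D]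
  rfl

end CfsgLib.Spor.JThreeUnique
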