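import Cfsg.Agent.Lib.Invol.JThreeType.Sixteen.Outside
import Cfsg.Agent.Lib.Invol.JThreeType.Sixteen.Powers
import Cfsg.Agent.Lib.Spor.JThreeUnique.Letters
import Cfsg.Agent.Lib.Spor.JThreeUnique.CubeTrivial.All
import Cfsg.Agent.Lib.Spor.JThreeUnique.FourthTrivial.All
import Cfsg.Agent.Lib.Spor.JThreeUnique.KillOne.All
import Cfsg.Agent.Lib.Spor.JThreeUnique.KillTwo.All

/-!
# The product of three has order five

Modulo the element of order three a third or fourth power would kill the group, and a fifth power other than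
one would put the extra involution into the group with seventeen points.
-/

set_option autoImplicit false

namespace CfsgLib.Spor.JThreeUnique

open CfsgLib.Spor.TC CfsgLib.Invol.JThreeType Subgroup
open CfsgLib.Invol.JTwo (cyc mem_cyc)

universe v

variable {G : Type v} [Group G]

theorem ev_map {H : Type*} [Group H] (φ : G →* H) (g : ℕ → G) (r : List ℕ) :
    ev (fun x => φ (g x)) r = φ (ev g r) := by
  simp [ev, map_list_prod, List.map_map, Function.comp_def]

/-- A letter list inside the subgroup it generates. -/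
def inside (g : ℕ → G) (n : ℕ) (x : ℕ) : closure (g '' Set.Iio n) :=
  if h : x < n then ⟨g x, subset_closure ⟨x, h, rfl⟩⟩ else 1

theorem inside_spec (g : ℕ → G) (n : ℕ) (hg : ∀ x, g x * g x = 1) (hn : ∀ x, n ≤ x → g x = 1) :
    (∀ x, inside g n x * inside g n x = 1) ∧ inside g n n = 1 ∧ closure (inside g n '' Set.Iio n) = ⊤ ∧
      ∀ x, ((inside g n x : closure (g '' Set.Iio n)) : G) = g x := by
  have hval : ∀ x, ((inside g n x : closure (g '' Set.Iio n)) : G) = g x := fun x => by
    unfold inside
    split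
    · rfl
    next h => exact (hn x (not_lt.1 h)).symm
  refine ⟨fun x => Subtype.ext (by rw [Subgroup.coe_mul, hval]; exact hg x),
    Subtype.ext (by rw [hval]; exact hn n le_rfl), eq_top_iff.2 fun a _ => ?_, hval⟩
  have key : closure (g '' Set.Iio n) ≤
      (closure (inside g n '' Set.Iio n)).map (closure (g '' Set.Iio n)).subtype := by
    rw [closure_le]
    rintro _ ⟨x, hx, rfl⟩
    exact ⟨_, subset_closure ⟨x, hx, rfl⟩, hval x⟩
  obtain ⟨b, hb, e⟩ := key a.2
  obtain rfl : b = a := Subtype.ext e
  exact hb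

variable [Finite G] {T : Subgroup G} {t σ w u : G} {K : Type} [Field K] {ζ : K} {θ : K → G}
  {S : Setting T t σ w u K ζ θ} {d : G} (D : Transv S d)
include D

/-- The four involutions commuting with the element of order three. -/
def xLetters (_D : Transv S d) (x : ℕ) : G := [σ * t ^ 6, σ, d, mate w d].getD x 1

theorem xLetters_sq : ∀ x, xLetters D x * xLetters D x = 1 := by
  intro x
  match x with
  | 0 =>
    show σ * t ^ 6 * (σ * t ^ 6) = 1
    rw [← mul_assoc, S.cfg.sigma_t, mul_assoc (t ^ (4 * 6)) σ σ, S.cfg.ss, mul_one, ← pow_add,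
      show 4 * 6 + 6 = 15 * 2 from rfl, pow_mul, S.cfg.t15, one_pow]
  | 1 => exact S.cfg.ss
  | 2 => exact D.dd
  | 3 => exact D.mate_sq
  | n + 4 => exact one_mul 1

theorem xLetters_comm : ∀ x, Commute (xLetters D x) (t ^ 10) := by
  intro x
  match x with
  | 0 => exact D.sig_commute.mul_left (D.pw_commute 6)
  | 1 => exact D.sig_commute
  | 2 => exact D.dy
  | 3 => exact D.mate_y
  | n + 4 => exact Commute.one_left _

theorem xBase_ok : ∀ r ∈ xBase, ev (xLetters D) r = 1 := by
  have hf : ev (xLetters D) [1, 0] = t ^ 6 := by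
    simp [ev, xLetters, ← mul_assoc, S.cfg.ss]
  have hfr : ev (xLetters D) [1, 0].reverse = t ^ 9 := by
    rw [show ev (xLetters D) [1, 0].reverse = σ * t ^ 6 * σ by simp [ev, xLetters], S.cfg.sigma_t,
      mul_assoc (t ^ (4 * 6)) σ σ, S.cfg.ss, mul_one, show 4 * 6 = 15 + 9 from rfl, pow_add, S.cfg.t15, one_mul]
  have h1 : xLetters D 1 = σ := rfl
  have h2 : xLetters D 2 = d := rfl
  have h3 : xLetters D 3 = mate w d := rfl
  have c : ∀ {a : G}, a * a = 1 → Commute a σ → a * σ * (a * σ) = 1 := fun {a} ha hc => by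
    rw [show a * σ * (a * σ) = a * (σ * a) * σ by group, ← hc.eq, show a * (a * σ) * σ = a * a * (σ * σ) by group,
      ha, S.cfg.ss, mul_one]
  simp only [xBase, List.forall_mem_cons, List.not_mem_nil, IsEmpty.forall_iff, implies_true, and_true]
  refine ⟨?_, ?_, ?_, ?_, ?_, ?_, ?_, ?_, ?_, ?_, ?_, ?_, ?_, ?_⟩
  · rw [ev_rep, hf, ← pow_mul, show 6 * 5 = 15 * 2 from rfl, pow_mul, S.cfg.t15, one_pow]
  · rw [show ev (xLetters D) [2, 1, 2, 1] = d * σ * (d * σ) by simp [ev, xLetters, mul_assoc]]
    exact c D.dd D.ds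
  · rw [show ev (xLetters D) [3, 1, 3, 1] = mate w d * σ * (mate w d * σ) by simp [ev, xLetters, mul_assoc]]
    exact c D.mate_sq D.mate_sigma
  · rw [show ev (xLetters D) [2, 3, 2, 3, 1] = (d * mate w d) ^ 2 * σ by simp [ev, xLetters, pow_two, mul_assoc],
      D.mate_comm, S.cfg.ss]
  · rw [ev_rep, ev_append, ev_one, h2, hf]; exact D.df3
  · rw [ev_rep, ev_append, ev_append, ev_one, ev_one, h2, h1, hf]; exact D.dsf5
  · rw [ev_rep, ev_append, ev_append, ev_append, ev_append, ev_one, h2, hf]; exact D.dfdff2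
  · rw [ev_rep, ev_append, ev_append, ev_append, ev_one, ev_one, h2, h1, hf]; exact D.dfsf2
  · rw [ev_rep, ev_append, ev_append, ev_append, ev_one, h2, hf, hfr]; exact D.dfdf5
  · rw [ev_rep, ev_append, ev_one, h3, hf]; exact D.qf3
  · rw [ev_rep, ev_append, ev_append, ev_one, ev_one, h3, h1, hf]; exact D.qsf5
  · rw [ev_rep, ev_append, ev_append, ev_append, ev_append, ev_one, h3, hf]; exact D.qfqff2
  · rw [ev_rep, ev_append, ev_append, ev_append, ev_one, ev_one, h3, h1, hf]; exact D.qfsf2
  · rw [ev_rep, ev_append, ev_append, ev_append, ev_one, h3, hf, hfr]; exact D.qfqf5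

theorem xLetters_fdq : ev (xLetters D) [1, 0, 2, 3] = t ^ 6 * d * mate w d := by
  simp [ev, xLetters, ← mul_assoc, S.cfg.ss]

/-- Modulo the element of order three, a power that kills the four involutions is impossible. -/
theorem no_small_power (n : ℕ)
    (hcert : ∀ {H : Type v} [Group H] (g : ℕ → H), (∀ x, g x * g x = 1) → g 4 = 1 →
      closure (g '' Set.Iio 4) = ⊤ → (∀ r ∈ xBase ++ [rep n [1, 0, 2, 3]], ev g r = 1) →
      Nat.card H ≤ 1)
    (hn : (t ^ 6 * d * mate w d) ^ n ∈ zpowers (t ^ 10)) : False := by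
  set y := t ^ 10 with hy
  let lift : ℕ → ↥(centralizer ({y} : Set G)) := fun x =>
    ⟨xLetters D x, mem_centralizer_singleton_iff.2 (xLetters_comm D x).eq⟩
  let g : ℕ → XQ y := fun x => QuotientGroup.mk' (cyc y) (lift x)
  have hg : ∀ x, g x * g x = 1 := fun x => by
    show QuotientGroup.mk' (cyc y) (lift x) * QuotientGroup.mk' (cyc y) (lift x) = 1
    rw [← map_mul, show lift x * lift x = 1 from Subtype.ext (xLetters_sq D x), map_one]
  have hev : ∀ r, ((ev lift r : ↥(centralizer ({y} : Set G))) : G) = ev (xLetters D) r := fun r =>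
    (ev_map (centralizer ({y} : Set G)).subtype lift r).symm
  have hrel : ∀ r ∈ xBase ++ [rep n [1, 0, 2, 3]], ev g r = 1 := by
    intro r hr
    rw [show ev g r = QuotientGroup.mk' (cyc y) (ev lift r) from ev_map _ lift r]
    refine (QuotientGroup.eq_one_iff _).2 (mem_cyc.2 ?_)
    rw [hev]
    rcases List.mem_append.1 hr with hr | hr
    · rw [xBase_ok D r hr]; exact one_mem _
    · rw [List.mem_singleton.1 hr, ev_rep, xLetters_fdq D]; exact hn
  have hg4 : ∀ x, 4 ≤ x → g x = 1 := fun x hx => by
    show QuotientGroup.mk' (cyc y) (lift x) = 1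
    rw [show lift x = 1 from Subtype.ext (by
      show xLetters D x = 1
      rw [xLetters, List.getD_eq_default _ _ (by simpa using hx)]), map_one]
  obtain ⟨i1, i2, i3, i4⟩ := inside_spec g 4 hg hg4
  have hc := hcert (inside g 4) i1 i2 i3 (fun r hr => Subtype.ext (by
    rw [show ((ev (inside g 4) r : closure (g '' Set.Iio 4)) : XQ y) =
      ev (fun x => ((inside g 4 x : closure (g '' Set.Iio 4)) : XQ y)) r from
      (ev_map (closure (g '' Set.Iio 4)).subtype _ r).symm, funext i4]
    exact hrel r hr))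
  haveI := Finite.card_le_one_iff_subsingleton.1 hc
  have hd : g 2 = 1 := by
    have := congrArg (fun a : closure (g '' Set.Iio 4) => (a : XQ y))
      (Subsingleton.elim (inside g 4 2) 1)
    simpa [i4] using this
  have hdy : d ∈ zpowers y := mem_cyc.1 ((QuotientGroup.eq_one_iff (lift 2)).1 hd)
  have hd3 : d ^ 3 = 1 := by
    obtain ⟨k, hk⟩ := mem_zpowers_iff.1 hdy
    rw [← hk, ← zpow_natCast, ← zpow_mul, mul_comm, zpow_mul, zpow_natCast, hy, S.y_three, one_zpow]
  rw [pow_succ, pow_two, D.dd, one_mul] at hd3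
  exact D.ne hd3

theorem letters_out : ∀ x, 6 ≤ x → letters u σ w t d x = 1 := fun x hx => by
  rw [letters, List.getD_eq_default _ _ (by simpa using hx)]

/-- A certificate of index one over the group with seventeen points is impossible. -/
theorem no_collapse {rels : List (List ℕ)}
    (hcert : ∀ {H : Type v} [Group H] (g : ℕ → H), (∀ x, g x * g x = 1) → g 6 = 1 →
      closure (g '' Set.Iio 6) = ⊤ → (∀ r ∈ rels, ev g r = 1) → ∀ L : Subgroup H,
      (∀ r ∈ [[0], [1], [2], [3], [4]], ev g r ∈ L) → L = ⊤)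
    (hrels : ∀ r ∈ rels, ev (letters u σ w t d) r = 1) : False := by
  set gl := letters u σ w t d
  obtain ⟨i1, i2, i3, i4⟩ := inside_spec gl 6 (letters_sq D) (letters_out D)
  have htop := hcert (inside gl 6) i1 i2 i3 (fun r hr => Subtype.ext (by
    rw [show ((ev (inside gl 6) r : closure (gl '' Set.Iio 6)) : G) =
      ev (fun x => ((inside gl 6 x : closure (gl '' Set.Iio 6)) : G)) r from
      (ev_map (closure (gl '' Set.Iio 6)).subtype _ r).symm, funext i4]
    exact hrels r hr))
    (S.base17.subgroupOf (closure (gl '' Set.Iio 6))) (by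
      intro r hr
      simp only [List.mem_cons, List.not_mem_nil, or_false] at hr
      rcases hr with rfl | rfl | rfl | rfl | rfl <;> rw [mem_subgroupOf, ev_one, i4] <;>
        exact subset_closure (by simp [gl, letters]))
  have h5 : inside gl 6 5 ∈ S.base17.subgroupOf (closure (gl '' Set.Iio 6)) := htop ▸ mem_top _
  rw [mem_subgroupOf, i4] at h5
  exact S.transv_notin D h5

/-- The product of the element of order five and the two points has order five. -/
theorem five_power : (t ^ 6 * d * mate w d) ^ 5 = 1 := by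
  set A := t ^ 6 * d * mate w d with hA
  obtain ⟨R, hR⟩ := S.hyp σ ⟨S.cfg.ss, S.sigma_ne⟩
  have hyC : t ^ 10 ∈ centralizer ({σ} : Set G) := mem_centralizer_singleton_iff.2 D.sig_commute.symm.eq
  have hyo : orderOf (t ^ 10) = 3 := by
    haveI : Fact (Nat.Prime 3) := ⟨Nat.prime_three⟩
    exact orderOf_eq_prime S.y_three S.y_ne
  have hAy : A * t ^ 10 = t ^ 10 * A :=
    (((D.pw_commute 6).mul_left D.d_commute).mul_left D.mate_y).eq
  rcases hR.pow_in_X hyC hyo hAy with e | e | e
  · exact (no_small_power D 3 (fun g hg hk hgen hr => by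
      have h := CubeTrivial.index_bound g hg hk hgen hr ⊥ (by simp [CubeTrivial.subs])
      rw [index_bot] at h
      exact h.2) e).elim
  · exact (no_small_power D 4 (fun g hg hk hgen hr => by
      have h := FourthTrivial.index_bound g hg hk hgen hr ⊥ (by simp [FourthTrivial.subs])
      rw [index_bot] at h
      exact h.2) e).elim
  have hb : ∀ r ∈ base, ev (letters u σ w t d) r = 1 := base_ok D
  have hA5 : ∀ i, ev (letters u σ w t d) (rep 5 fdq ++ tW i) = A ^ 5 * t ^ i := fun i => by
    rw [ev_append, ev_rep, ev_fdq D, ev_tW D]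
  rcases CfsgLib.Invol.JTwo.pow_cases_three hyo e with e' | e' | e'
  · exact e'
  · exfalso
    refine no_collapse D (rels := KillOne.baseRels) (fun g hg hk hgen hr L hL => ?_) fun r hr => ?_
    · have h := KillOne.index_bound g hg hk hgen hr L hL
      exact index_eq_one.1 (by omega)
    · rcases List.mem_append.1 hr with hr | hr
      · exact hb r hr
      · rw [List.mem_singleton.1 hr, hA5, e', ← pow_add]; exact S.cfg.t15
  · exfalso
    refine no_collapse D (rels := KillTwo.baseRels) (fun g hg hk hgen hr L hL => ?_) fun r hr => ?_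
    · have h := KillTwo.index_bound g hg hk hgen hr L hL
      exact index_eq_one.1 (by omega)
    · rcases List.mem_append.1 hr with hr | hr
      · exact hb r hr
      · rw [List.mem_singleton.1 hr, hA5, e', inv_mul_cancel]

end CfsgLib.Spor.JThreeUnique
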