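import Cfsg.Agent.Lib.Spor.TC.Check
import Mathlib.GroupTheory.Subgroup.Simple

/-!
# Two simple groups with corresponding generators

If the group generated by the pairs is smaller than the product it is the graph of an isomorphism.
-/

set_option autoImplicit false

namespace CfsgLib.Spor.JThreeUnique

open Subgroup CfsgLib.Spor.TC

universe v

/-- The pairs of corresponding elements. -/
def pairs {G : Type v} [Group G] {J : Type*} [Group J] (g : ℕ → G) (j : ℕ → J) (x : ℕ) : G × J := (g x, j x)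

theorem ev_pairs {G : Type v} [Group G] {J : Type*} [Group J] (g : ℕ → G) (j : ℕ → J) (r : List ℕ) :
    ev (pairs g j) r = (ev g r, ev j r) := by
  induction r with
  | nil => rfl
  | cons a r ih => rw [ev_cons, ih, ev_cons, ev_cons]; rfl

/-- Goursat's lemma for simple groups. -/
theorem iso_of_small {G : Type v} [Group G] [Finite G] [IsSimpleGroup G] {J : Type*} [Group J] [Finite J]
    [IsSimpleGroup J] (D : Subgroup (G × J)) (h1 : D.map (MonoidHom.fst G J) = ⊤)
    (h2 : D.map (MonoidHom.snd G J) = ⊤) (hsmall : Nat.card D < Nat.card G * Nat.card J) : Nonempty (G ≃* J) := by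
  have e1 : ∀ a : G, ∃ b : J, (a, b) ∈ D := fun a => by
    obtain ⟨⟨x, y⟩, hm, e⟩ : a ∈ D.map (MonoidHom.fst G J) := h1 ▸ mem_top a
    exact ⟨y, by rw [← show x = a from e]; exact hm⟩
  have e2 : ∀ b : J, ∃ a : G, (a, b) ∈ D := fun b => by
    obtain ⟨⟨x, y⟩, hm, e⟩ : b ∈ D.map (MonoidHom.snd G J) := h2 ▸ mem_top b
    exact ⟨x, by rw [← show y = b from e]; exact hm⟩
  have hfull : ¬ ∀ p : G × J, p ∈ D := fun hall => by
    rw [show D = ⊤ from eq_top_iff.2 fun p _ => hall p, Nat.card_congr Subgroup.topEquiv.toEquiv, Nat.card_prod] at hsmall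
    exact lt_irrefl _ hsmall
  have k1 : D.comap (MonoidHom.inl G J) = ⊥ := by
    haveI : (D.comap (MonoidHom.inl G J)).Normal := ⟨fun n hn a => by
      obtain ⟨b, hb⟩ := e1 a
      have := mul_mem (mul_mem hb (show ((n, 1) : G × J) ∈ D from hn)) (inv_mem hb)
      show ((a * n * a⁻¹, 1) : G × J) ∈ D
      simpa using this⟩
    refine (Normal.eq_bot_or_eq_top this).resolve_right fun e => hfull fun ⟨a, b⟩ => ?_
    obtain ⟨a', ha'⟩ := e2 b
    have hm : ((a * a'⁻¹, 1) : G × J) ∈ D := (show a * a'⁻¹ ∈ D.comap (MonoidHom.inl G J) from e ▸ mem_top _)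
    simpa using mul_mem hm ha'
  have k2 : D.comap (MonoidHom.inr G J) = ⊥ := by
    haveI : (D.comap (MonoidHom.inr G J)).Normal := ⟨fun n hn a => by
      obtain ⟨b, hb⟩ := e2 a
      have := mul_mem (mul_mem hb (show ((1, n) : G × J) ∈ D from hn)) (inv_mem hb)
      show ((1, a * n * a⁻¹) : G × J) ∈ D
      simpa using this⟩
    refine (Normal.eq_bot_or_eq_top this).resolve_right fun e => hfull fun ⟨a, b⟩ => ?_
    obtain ⟨b', hb'⟩ := e1 a
    have hm : ((1, b * b'⁻¹) : G × J) ∈ D := (show b * b'⁻¹ ∈ D.comap (MonoidHom.inr G J) from e ▸ mem_top _)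
    simpa using mul_mem hm hb'
  have i1 : Function.Injective ((MonoidHom.fst G J).comp D.subtype) := by
    refine (injective_iff_map_eq_one _).2 ?_
    rintro ⟨⟨a, b⟩, hp⟩ (e : a = 1)
    subst e
    have hb : b ∈ D.comap (MonoidHom.inr G J) := hp
    rw [k2, mem_bot] at hb
    subst hb
    rfl
  have i2 : Function.Injective ((MonoidHom.snd G J).comp D.subtype) := by
    refine (injective_iff_map_eq_one _).2 ?_
    rintro ⟨⟨a, b⟩, hp⟩ (e : b = 1)
    subst e
    have ha : a ∈ D.comap (MonoidHom.inl G J) := hp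
    rw [k1, mem_bot] at ha
    subst ha
    rfl
  exact ⟨(MulEquiv.ofBijective ((MonoidHom.fst G J).comp D.subtype)
    ⟨i1, fun a => let ⟨b, hb⟩ := e1 a; ⟨⟨(a, b), hb⟩, rfl⟩⟩).symm.trans
    (MulEquiv.ofBijective ((MonoidHom.snd G J).comp D.subtype)
      ⟨i2, fun b => let ⟨a, ha⟩ := e2 b; ⟨⟨(a, b), ha⟩, rfl⟩⟩)⟩

end CfsgLib.Spor.JThreeUnique
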