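import Cfsg.Agent.Lib.Invol.JThreeType.Sixteen.Generation
import Cfsg.Agent.Lib.Spor.JThreeUnique.Exponent

/-!
# Six standard involutions in a group of third Janko type
-/

set_option autoImplicit false

namespace CfsgLib.Spor.JThreeUnique

open Subgroup CfsgLib.Spor.TC CfsgLib.Invol.JThreeType

/-- Six involutions with the relators, generating, the first five generating a small group. -/
theorem six_generators {G : Type*} [Group G] [Finite G] {z : G} {Q : Subgroup G} (h : Hyp z Q) :
    ∃ g : ℕ → G, (∀ x, g x * g x = 1) ∧ (∀ x, 6 ≤ x → g x = 1) ∧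
      (∀ r ∈ base ++ [rep 5 fdq], ev g r = 1) ∧ closure (g '' Set.Iio 6) = ⊤ ∧
      Nat.card (closure (g '' Set.Iio 5)) ≤ 8160 := by
  obtain ⟨T, t, σ, w, u, K, hK, ζ, θ, S⟩ := h.exists_setting
  obtain ⟨d, D⟩ := S.exists_transv
  refine ⟨letters u σ w t d, letters_sq D, letters_out D, fun r hr => ?_, ?_, ?_⟩
  · rcases List.mem_append.1 hr with hr | hr
    · exact base_ok D r hr
    · rw [List.mem_singleton.1 hr, ev_rep, ev_fdq D, five_power D]
  · have hm : ∀ x < 6, letters u σ w t d x ∈ closure (letters u σ w t d '' Set.Iio 6) := fun x hx =>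
      subset_closure ⟨x, hx, rfl⟩
    exact D.gens_le (hm 0 (by norm_num)) (hm 1 (by norm_num)) (hm 2 (by norm_num)) (hm 3 (by norm_num))
      (hm 4 (by norm_num)) (hm 5 (by norm_num))
  · refine (Nat.le_of_dvd Nat.card_pos (card_dvd_of_le ?_)).trans S.card_base
    rw [closure_le]
    rintro _ ⟨x, hx, rfl⟩
    refine subset_closure ?_
    match x, hx with
    | 0, _ => simp [letters]
    | 1, _ => simp [letters]
    | 2, _ => simp [letters]
    | 3, _ => simp [letters]
    | 4, _ => simp [letters]

end CfsgLib.Spor.JThreeUnique
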