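import Cfsg.Agent.Lib.Spor.JThreeUnique.SixGenerators
import Cfsg.Agent.Lib.Spor.JThreeUnique.Pairing
import Cfsg.Agent.Lib.Spor.JThreeUnique.Bound.All

/-!
# Two simple groups of third Janko type are isomorphic
-/

set_option autoImplicit false

namespace CfsgLib.Spor.JThreeUnique

open Subgroup CfsgLib.Spor.TC CfsgLib.Invol.JThreeType

theorem iso_of_hyp {G : Type*} [Group G] [Finite G] [IsSimpleGroup G] {z : G} {Q : Subgroup G} (h : Hyp z Q)
    {J : Type*} [Group J] [Finite J] [IsSimpleGroup J] {z' : J} {Q' : Subgroup J} (h' : Hyp z' Q') :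
    Nonempty (G ≃* J) := by
  obtain ⟨g, g2, g6, gR, gtop, gL⟩ := six_generators h
  obtain ⟨j, j2, j6, jR, jtop, jL⟩ := six_generators h'
  set p := pairs g j
  set D := closure (p '' Set.Iio 6)
  have p2 : ∀ x, p x * p x = 1 := fun x => Prod.ext (g2 x) (j2 x)
  obtain ⟨i1, i2, i3, i4⟩ := inside_spec p 6 p2 (fun x hx => Prod.ext (g6 x hx) (j6 x hx))
  set L : Subgroup D := ((closure (g '' Set.Iio 5)).prod (closure (j '' Set.Iio 5))).subgroupOf D
  obtain ⟨-, hidx⟩ := Bound.index_bound (inside p 6) i1 i2 i3 (fun r hr => Subtype.ext (by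
    rw [show ((ev (inside p 6) r : D) : G × J) = ev (fun x => ((inside p 6 x : D) : G × J)) r from
      (ev_map D.subtype _ r).symm, funext i4, ev_pairs]
    exact Prod.ext (gR r hr) (jR r hr))) L (by
      intro r hr
      simp only [Bound.subs, List.mem_cons, List.not_mem_nil, or_false] at hr
      rcases hr with rfl | rfl | rfl | rfl | rfl <;> rw [mem_subgroupOf, ev_one, i4] <;>
        exact ⟨subset_closure ⟨_, by norm_num, rfl⟩, subset_closure ⟨_, by norm_num, rfl⟩⟩)
  have hL : Nat.card L ≤ 8160 * 8160 := by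
    refine (Nat.card_le_card_of_injective
      (fun a : L => (⟨⟨((a : D) : G × J).1, (Subgroup.mem_prod.1 (mem_subgroupOf.1 a.2)).1⟩,
        ⟨((a : D) : G × J).2, (Subgroup.mem_prod.1 (mem_subgroupOf.1 a.2)).2⟩⟩ :
        closure (g '' Set.Iio 5) × closure (j '' Set.Iio 5))) ?_).trans ?_
    · intro a b e
      exact Subtype.ext (Subtype.ext (Prod.ext (congrArg (fun q => (q.1 : G)) e) (congrArg (fun q => (q.2 : J)) e)))
    · rw [Nat.card_prod]
      exact Nat.mul_le_mul gL jL
  have hD : Nat.card D ≤ 8160 * 8160 * 18468 := by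
    rw [← L.card_mul_index]
    exact Nat.mul_le_mul hL hidx
  refine iso_of_small D ?_ ?_ ?_
  · rw [MonoidHom.map_closure, ← Set.image_comp]
    exact gtop
  · rw [MonoidHom.map_closure, ← Set.image_comp]
    exact jtop
  · rw [h.card_eq, h'.card_eq]
    exact lt_of_le_of_lt hD (by norm_num)

end CfsgLib.Spor.JThreeUnique
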